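import Mathlib
import Cfsg.Agent.Helper18.TorusCard

/-!
# helper80: self-centralizing cyclic tori without Lang's theorem (S2372 `F₄`, S2375 `E₈`)

Definitions shared by all pieces: the twisted torus `twTorus M q` inside `(Kˣ)^l`, the maps
`iotaGL`, `sigmaGL` (scalar extension and entrywise Frobenius) and the bundle `TorData`
of facts the Chevalley side has to deliver.
-/

set_option autoImplicit false

namespace Cfsg.Agent.Helper80.Tor

open Cfsg.Agent.Helper18 (zact)

/-- the twisted torus `{c ∈ G^l : M.(c^q) = c}` -/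
def twTorus {G : Type*} [CommGroup G] {l : ℕ} (M : Matrix (Fin l) (Fin l) ℤ) (q : ℕ) :
    Subgroup (Fin l → G) :=
  MonoidHom.eqLocus ((zact M).comp (powMonoidHom q)) (MonoidHom.id _)

theorem mem_twTorus {G : Type*} [CommGroup G] {l : ℕ} (M : Matrix (Fin l) (Fin l) ℤ) (q : ℕ)
    (c : Fin l → G) : c ∈ twTorus M q ↔ zact M (c ^ q) = c := Iff.rfl

section Maps

variable (n : Type*) [Fintype n] [DecidableEq n] (F K : Type*) [Field F] [Fintype F] [Field K]
  [Algebra F K]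

/-- the Frobenius `x ↦ x ^ #F` of `K`, as a ring homomorphism -/
noncomputable def frobK : K →+* K := (FiniteField.frobeniusAlgHom F K).toRingHom

theorem frobK_apply (x : K) : frobK F K x = x ^ Fintype.card F := rfl

/-- scalar extension `GL n F → GL n K` -/
noncomputable def iotaGL : GL n F →* GL n K := Matrix.GeneralLinearGroup.map (algebraMap F K)

/-- the entrywise Frobenius on `GL n K` -/
noncomputable def sigmaGL : GL n K →* GL n K := Matrix.GeneralLinearGroup.map (frobK F K)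

end Maps

/-- What the Chevalley side delivers: groups `GF ≤ GL n F`, `HK, NK ≤ GK ≤ GL n K`, a
parametrisation `τ` of the torus `HK` by `(Kˣ)^l`, and a finite group `Wg` acting on the
coordinates through integer matrices `ρ`. -/
structure TorData (n : Type*) [Fintype n] [DecidableEq n] (F K : Type*) [Field F] [Fintype F]
    [Field K] [Algebra F K] (l : ℕ) where
  GF : Subgroup (GL n F)
  GK : Subgroup (GL n K)
  HK : Subgroup (GL n K)
  NK : Subgroup (GL n K)
  τ : (Fin l → Kˣ) →* GL n K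
  Wg : Type
  grpW : Group Wg
  finW : Finite Wg
  ρ : Wg →* (Matrix (Fin l) (Fin l) ℤ)ˣ
  /-- `G(F) → G(K)` -/
  hιG : ∀ g ∈ GF, iotaGL n F K g ∈ GK
  /-- the Frobenius preserves `G(K)` -/
  hσG : ∀ g ∈ GK, sigmaGL n F K g ∈ GK
  /-- descent: Frobenius-fixed elements of `G(K)` come from `G(F)` -/
  hdesc : ∀ g ∈ GK, sigmaGL n F K g = g → ∃ g₀ ∈ GF, iotaGL n F K g₀ = g
  hHG : HK ≤ GK
  hNG : NK ≤ GK
  hτinj : Function.Injective τ
  hτrange : ∀ h : GL n K, h ∈ HK ↔ ∃ c, τ c = h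
  /-- the Frobenius raises torus elements to the `q`-th power -/
  hστ : ∀ c : Fin l → Kˣ, sigmaGL n F K (τ c) = τ (c ^ Fintype.card F)
  /-- fusion in `H` is controlled by `N` -/
  hfus : ∀ h₁ ∈ HK, ∀ h₂ ∈ HK, ∀ g ∈ GK, g * h₁ * g⁻¹ = h₂ → ∃ n ∈ NK, n * h₁ * n⁻¹ = h₂
  /-- `N` acts on the torus coordinates through the integer matrices `ρ w` -/
  hNact : ∀ n ∈ NK, ∃ w : Wg, ∀ c : Fin l → Kˣ, n * τ c * n⁻¹ = τ (zact ((ρ w : (Matrix (Fin l) (Fin l) ℤ)ˣ) : Matrix (Fin l) (Fin l) ℤ) c)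
  /-- `C_N(H) = H` -/
  hNH : ∀ n ∈ NK, (∀ h ∈ HK, n * h * n⁻¹ = h) → n ∈ HK
  /-- a torus element with `Stab_N(t) = H` has `C_G(t) = H` -/
  hcent : ∀ t ∈ HK, (∀ n ∈ NK, n * t * n⁻¹ = t → n ∈ HK) → ∀ g ∈ GK, g * t * g⁻¹ = t → g ∈ HK

attribute [instance] TorData.grpW TorData.finW

end Cfsg.Agent.Helper80.Tor
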