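import Cfsg.Agent.Helper80.Tor.Defs
import Cfsg.Agent.Helper55.TorTCOUNT
import Cfsg.Agent.Helper24.TorSYL
import Cfsg.Agent.Helper87.TorSTAB

/-!
# helper80: assembly of the abstract torus theorem `torus_main`
-/

set_option autoImplicit false
set_option linter.unusedVariables false
set_option linter.unusedSectionVars false
set_option linter.style.haveILetI false

namespace Cfsg.Agent.Helper80.Tor

open Cfsg.Agent.Helper18 (zact zact_one)
open Polynomial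
open Cfsg.Agent.Helper55.Tor Cfsg.Agent.Helper24.Tor Cfsg.Agent.Helper87.Tor

section Maps
variable {n : Type*} [Fintype n] [DecidableEq n] {F K : Type*} [Field F] [Fintype F] [Field K]
  [Algebra F K]

theorem iotaGL_injective : Function.Injective (iotaGL n F K) := by
  intro a b h
  apply Units.ext
  ext i j
  have := congrArg (fun g : GL n K => (g : Matrix n n K) i j) h
  simp only [iotaGL, Matrix.GeneralLinearGroup.map_apply] at this
  exact (algebraMap F K).injective this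

theorem sigmaGL_iotaGL (g : GL n F) : sigmaGL n F K (iotaGL n F K g) = iotaGL n F K g := by
  apply Units.ext
  ext i j
  simp only [sigmaGL, iotaGL, Matrix.GeneralLinearGroup.map_apply]
  exact (FiniteField.frobeniusAlgHom F K).commutes _

end Maps

section Torsion

/-- in a commutative group, `a ^ q = b ^ q` for `r`-torsion elements with `q` a unit mod `r` forces `a = b` -/
theorem eq_of_pow_eq_of_torsion {A : Type*} [CommGroup A] {q r : ℕ} [Fact r.Prime]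
    (hq : IsUnit (q : ZMod r)) (a b : A) (ha : a ^ r = 1) (hb : b ^ r = 1) (h : a ^ q = b ^ q) : a = b := by
  have hr : r.Prime := Fact.out
  have hcop : Nat.Coprime q r := by
    rw [ZMod.isUnit_iff_coprime] at hq
    exact hq
  have hd : (a * b⁻¹) ^ q = 1 := by rw [mul_pow, inv_pow, h, mul_inv_cancel]
  have hd' : (a * b⁻¹) ^ r = 1 := by rw [mul_pow, inv_pow, ha, hb, inv_one, mul_one]
  have h1 : orderOf (a * b⁻¹) ∣ Nat.gcd q r :=
    Nat.dvd_gcd (orderOf_dvd_of_pow_eq_one hd) (orderOf_dvd_of_pow_eq_one hd')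
  rw [hcop.gcd_eq_one, Nat.dvd_one, orderOf_eq_one_iff] at h1
  exact mul_inv_eq_one.mp h1

end Torsion


section Main

theorem inv_conj_pow {G : Type*} [Group G] (g y : G) (k : ℕ) : (g⁻¹ * y * g) ^ k = g⁻¹ * y ^ k * g := by
  have := conj_pow (a := g⁻¹) (b := y) (i := k)
  simpa using this

variable {n : Type*} [Fintype n] [DecidableEq n] {F K : Type*} [Field F] [Fintype F] [Field K]
  [Fintype K] [Algebra F K]

/-- the cardinality of the torus -/
theorem card_HK {l : ℕ} (d : TorData n F K l) : Nat.card ↥d.HK = (Fintype.card K - 1) ^ l := by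
  have e : (Fin l → Kˣ) ≃ ↥d.HK :=
    Equiv.ofBijective (fun c => ⟨d.τ c, (d.hτrange _).mpr ⟨c, rfl⟩⟩)
      ⟨fun a b h => d.hτinj (Subtype.mk.inj h), fun h => by
        obtain ⟨c, hc⟩ := (d.hτrange _).mp h.2
        exact ⟨c, Subtype.ext hc⟩⟩
  rw [← Nat.card_congr e, Nat.card_fun, Nat.card_fin, Nat.card_units, Nat.card_eq_fintype_card]

theorem torus_main {l m q r N₀ : ℕ} [Fact r.Prime] (d : TorData n F K l)
    (hq : Fintype.card F = q) (hq2 : 2 ≤ q) (hm : 0 < m) (hK : Fintype.card K = q ^ m)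
    (hl : Nat.totient m = l) (hrW : ¬ r ∣ Nat.card d.Wg) (hrGF : r ∣ Nat.card ↥d.GF)
    (hval : (Nat.card ↥d.GK).factorization r = l * (q ^ m - 1).factorization r)
    (hqr : orderOf (q : ZMod r) = m) (g : ℤ[X]) (hN₀ : 0 < N₀)
    (hg : (1 - C (q : ℤ) * X) * g = C (N₀ : ℤ) - C ((q : ℤ) ^ l) * cyclotomic m ℤ)
    (hdvd : N₀ ∣ q ^ m - 1) (hgood : ∀ ℓ : ℕ, ℓ.Prime → ℓ ∣ m → ℓ ∣ N₀ → ¬ ℓ ^ 2 ∣ N₀) :
    ∃ H : Subgroup ↥d.GF, IsCyclic ↥H ∧ Nat.card ↥H = N₀ ∧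
      Subgroup.centralizer (H : Set ↥d.GF) = H := by
  classical
  have hr : r.Prime := Fact.out
  have hqU : IsUnit (q : ZMod r) := by
    have h0 : 0 < orderOf (q : ZMod r) := by rw [hqr]; exact hm
    exact (orderOf_pos_iff.mp h0).isUnit
  -- Step 1: an element of order `r`
  obtain ⟨x, hx⟩ := exists_prime_orderOf_dvd_card' (G := ↥d.GF) r hrGF
  have hxK_mem : iotaGL n F K (x : GL n F) ∈ d.GK := d.hιG _ x.2
  have hxK : orderOf (⟨iotaGL n F K x, hxK_mem⟩ : ↥d.GK) = r := by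
    rw [← hx, ← Subgroup.orderOf_coe, ← Subgroup.orderOf_coe x]
    exact orderOf_injective (iotaGL n F K) iotaGL_injective _
  have hxr : (x : GL n F) ^ r = 1 := by
    have := pow_orderOf_eq_one x
    rw [hx] at this
    have h2 := congrArg (fun z : ↥d.GF => (z : GL n F)) this
    simpa using h2
  have hx1 : (x : GL n F) ≠ 1 := by
    intro h
    have : x = 1 := Subtype.ext h
    rw [this, orderOf_one] at hx
    exact hr.one_lt.ne hx
  -- Step 2: conjugate into the torus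
  have hcardH' : Nat.card ↥(d.HK.subgroupOf d.GK) = (q ^ m - 1) ^ l := by
    rw [Nat.card_congr (Subgroup.subgroupOfEquivOfLe d.hHG).toEquiv, card_HK, hK]
  obtain ⟨g₁, hg₁⟩ := exists_conj_mem_of_sylow (d.HK.subgroupOf d.GK) r
    (by rw [hcardH', hval, Nat.factorization_pow]; rfl) ⟨iotaGL n F K x, hxK_mem⟩ hxK
  rw [Subgroup.mem_subgroupOf] at hg₁
  set g₀ : GL n K := (g₁ : GL n K) with hg₀
  have hg₀G : g₀ ∈ d.GK := g₁.2
  set t : GL n K := g₀⁻¹ * iotaGL n F K x * g₀ with ht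
  have htH : t ∈ d.HK := by simpa using hg₁
  have hιx : iotaGL n F K x = g₀ * t * g₀⁻¹ := by rw [ht]; group
  have htr : t ^ r = 1 := by
    rw [ht, inv_conj_pow, ← map_pow, hxr, map_one]; group
  have ht1 : t ≠ 1 := by
    intro h
    rw [h] at hιx
    apply hx1
    apply iotaGL_injective (n := n) (F := F) (K := K)
    rw [hιx, map_one]; group
  obtain ⟨c₀, hc₀⟩ := (d.hτrange _).mp htH
  have hc₀r' : c₀ ^ r = 1 := by
    apply d.hτinj
    rw [map_pow, hc₀, htr, map_one]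
  have hc₀r : ∀ i, c₀ i ^ r = 1 := fun i => congrFun hc₀r' i
  have hc₀1 : c₀ ≠ 1 := by
    intro h
    apply ht1
    rw [← hc₀, h, map_one]
  have hτmem : ∀ c, d.τ c ∈ d.HK := fun c => (d.hτrange _).mpr ⟨c, rfl⟩
  -- Step 3: the Frobenius twist
  set n₁ : GL n K := g₀⁻¹ * sigmaGL n F K g₀ with hn₁
  have hn₁G : n₁ ∈ d.GK := mul_mem (inv_mem hg₀G) (d.hσG _ hg₀G)
  have hσg₀ : sigmaGL n F K g₀ = g₀ * n₁ := by rw [hn₁]; group
  have hσt : sigmaGL n F K t = d.τ (c₀ ^ q) := by rw [← hc₀, d.hστ, hq]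
  have hσt' : sigmaGL n F K t =
      (sigmaGL n F K g₀)⁻¹ * iotaGL n F K x * sigmaGL n F K g₀ := by
    rw [ht, map_mul, map_mul, map_inv, sigmaGL_iotaGL]
  have hn₁t : n₁ * d.τ (c₀ ^ q) * n₁⁻¹ = d.τ c₀ := by
    rw [← hσt, hσt', hc₀, hn₁, ht]; group
  -- Step 4: fusion
  obtain ⟨nn, hnnN, hnn⟩ := d.hfus _ (hτmem (c₀ ^ q)) _ (hτmem c₀) n₁ hn₁G hn₁t
  obtain ⟨w₀, hw₀⟩ := d.hNact nn hnnN
  set M : Matrix (Fin l) (Fin l) ℤ :=
    ((d.ρ w₀ : (Matrix (Fin l) (Fin l) ℤ)ˣ) : Matrix (Fin l) (Fin l) ℤ) with hM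
  have hMc : zact M (c₀ ^ q) = c₀ := d.hτinj (by rw [← hw₀, hnn])
  -- Step 5: the stabiliser
  obtain ⟨hΦ, hS⟩ := stab_trivial hm hl hrW d.ρ hqr c₀ hc₀1 hc₀r w₀ hMc
  have hstab : ∀ c : Fin l → Kˣ,
      (∀ s : d.Wg, zact ((d.ρ s : (Matrix (Fin l) (Fin l) ℤ)ˣ) : Matrix (Fin l) (Fin l) ℤ) c = c →
        zact ((d.ρ s : (Matrix (Fin l) (Fin l) ℤ)ˣ) : Matrix (Fin l) (Fin l) ℤ) c₀ = c₀) →
      ∀ n' ∈ d.NK, n' * d.τ c * n'⁻¹ = d.τ c → n' ∈ d.HK := by
    intro c hc n' hn' hfix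
    obtain ⟨s, hs⟩ := d.hNact n' hn'
    have h1 : zact ((d.ρ s : (Matrix (Fin l) (Fin l) ℤ)ˣ) : Matrix (Fin l) (Fin l) ℤ) c = c :=
      d.hτinj (by rw [← hs, hfix])
    have h2 := hS s (hc s h1)
    apply d.hNH n' hn'
    intro h hh
    obtain ⟨c', rfl⟩ := (d.hτrange _).mp hh
    rw [hs, h2, Units.val_one, zact_one]
  have hcent_t : ∀ g' ∈ d.GK, g' * t * g'⁻¹ = t → g' ∈ d.HK := by
    rw [← hc₀]
    exact d.hcent _ (hτmem c₀) (hstab c₀ (fun s h => h))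
  have hcent_t' : ∀ g' ∈ d.GK, g' * d.τ (c₀ ^ q) * g'⁻¹ = d.τ (c₀ ^ q) → g' ∈ d.HK := by
    apply d.hcent _ (hτmem _) (hstab _ _)
    intro s hs
    rw [map_pow] at hs
    apply eq_of_pow_eq_of_torsion hqU _ _ _ hc₀r' hs
    rw [← map_pow, hc₀r', map_one]
  -- Step 6: `n₁` acts on the torus as `M`
  have h8 : nn⁻¹ * n₁ ∈ d.HK := by
    apply hcent_t' _ (mul_mem (inv_mem (d.hNG hnnN)) hn₁G)
    have e : nn⁻¹ * n₁ * d.τ (c₀ ^ q) * (nn⁻¹ * n₁)⁻¹ =
        nn⁻¹ * (n₁ * d.τ (c₀ ^ q) * n₁⁻¹) * nn := by group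
    rw [e, hn₁t, ← hnn]; group
  obtain ⟨ch, hch⟩ := (d.hτrange _).mp h8
  have hn₁act : ∀ c, n₁ * d.τ c * n₁⁻¹ = d.τ (zact M c) := by
    intro c
    have e1 : n₁ = nn * d.τ ch := by rw [hch]; group
    have e2 : nn * d.τ ch * d.τ c * (nn * d.τ ch)⁻¹ =
        nn * (d.τ ch * d.τ c * (d.τ ch)⁻¹) * nn⁻¹ := by group
    rw [e1, e2, ← map_mul, ← map_inv, ← map_mul, mul_comm ch c, mul_inv_cancel_right, hw₀]
  -- Step 7: the twisted torus
  obtain ⟨hTcyc, hTcard⟩ := twTorus_cyclic_card (K := K) hq2 hm hK hl M hΦ g hN₀ hg hdvd hgood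
  -- its image in `G(K)` consists of Frobenius-fixed elements
  have hfixT : ∀ c : Fin l → Kˣ, sigmaGL n F K (g₀ * d.τ c * g₀⁻¹) = g₀ * d.τ (zact M (c ^ q)) * g₀⁻¹ := by
    intro c
    rw [map_mul, map_mul, map_inv, hσg₀, d.hστ, hq, ← hn₁act]; group
  -- the two embeddings
  let φ : ↥(twTorus (G := Kˣ) M q) →* GL n K :=
    (MulAut.conj g₀).toMonoidHom.comp (d.τ.comp (Subgroup.subtype _))
  have hφ : ∀ c : ↥(twTorus (G := Kˣ) M q), φ c = g₀ * d.τ (c : Fin l → Kˣ) * g₀⁻¹ := fun c => rfl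
  have hφinj : Function.Injective φ := by
    intro a b h
    rw [hφ, hφ] at h
    apply Subtype.ext
    apply d.hτinj
    have := congrArg (fun z => g₀⁻¹ * z * g₀) h
    simpa [mul_assoc] using this
  let f : ↥d.GF →* GL n K := (iotaGL n F K).comp d.GF.subtype
  have hf : ∀ z : ↥d.GF, f z = iotaGL n F K (z : GL n F) := fun z => rfl
  have hfinj : Function.Injective f := fun a b h => Subtype.ext (iotaGL_injective h)
  have hRle : φ.range ≤ f.range := by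
    rintro _ ⟨c, rfl⟩
    have hcT : zact M ((c : Fin l → Kˣ) ^ q) = (c : Fin l → Kˣ) := (mem_twTorus M q _).mp c.2
    have hyG : g₀ * d.τ (c : Fin l → Kˣ) * g₀⁻¹ ∈ d.GK :=
      mul_mem (mul_mem hg₀G (d.hHG (hτmem _))) (inv_mem hg₀G)
    obtain ⟨z, hz, hzy⟩ := d.hdesc _ hyG (by rw [hfixT, hcT])
    exact ⟨⟨z, hz⟩, by rw [hf, hφ]; exact hzy⟩
  -- the isomorphism `H ≃ T`
  have he1 : Function.Bijective (f.subgroupComap φ.range) := by
    constructor
    · intro a b h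
      have h' := congrArg (fun z : ↥φ.range => (z : GL n K)) h
      exact Subtype.ext (hfinj h')
    · rintro ⟨y, hy⟩
      obtain ⟨z, hz⟩ := hRle hy
      exact ⟨⟨z, by rw [Subgroup.mem_comap, hz]; exact hy⟩, Subtype.ext hz⟩
  let e : ↥(φ.range.comap f) ≃* ↥(twTorus (G := Kˣ) M q) :=
    (MulEquiv.ofBijective (f.subgroupComap φ.range) he1).trans (MonoidHom.ofInjective hφinj).symm
  have hmemH : ∀ z : ↥d.GF, z ∈ φ.range.comap f ↔
      ∃ c : Fin l → Kˣ, zact M (c ^ q) = c ∧ iotaGL n F K (z : GL n F) = g₀ * d.τ c * g₀⁻¹ := by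
    intro z
    rw [Subgroup.mem_comap, MonoidHom.mem_range]
    constructor
    · rintro ⟨c, hc⟩
      exact ⟨c, (mem_twTorus M q _).mp c.2, by rw [← hf, ← hc, hφ]⟩
    · rintro ⟨c, hc, hz⟩
      exact ⟨⟨c, (mem_twTorus M q _).mpr hc⟩, by rw [hφ, hf, hz]⟩
  refine ⟨φ.range.comap f, ?_, ?_, ?_⟩
  · haveI := hTcyc
    exact isCyclic_of_surjective e.symm.toMonoidHom e.symm.surjective
  · rw [Nat.card_congr e.toEquiv, hTcard]
  · apply le_antisymm
    · -- the centraliser lies in `C(x)`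
      intro z hz
      have hxH : x ∈ φ.range.comap f := (hmemH x).mpr ⟨c₀, hMc, by rw [hc₀, hιx]⟩
      have hcomm : x * z = z * x := (Subgroup.mem_centralizer_iff.mp hz) x hxH
      have hcomm' : iotaGL n F K (x : GL n F) * iotaGL n F K (z : GL n F) =
          iotaGL n F K (z : GL n F) * iotaGL n F K (x : GL n F) := by
        rw [← map_mul, ← map_mul, ← Subgroup.coe_mul, ← Subgroup.coe_mul, hcomm]
      have hzG : iotaGL n F K (z : GL n F) ∈ d.GK := d.hιG _ z.2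
      have hg'G : g₀⁻¹ * iotaGL n F K (z : GL n F) * g₀ ∈ d.GK :=
        mul_mem (mul_mem (inv_mem hg₀G) hzG) hg₀G
      have hg't : g₀⁻¹ * iotaGL n F K (z : GL n F) * g₀ * t * (g₀⁻¹ * iotaGL n F K (z : GL n F) * g₀)⁻¹ = t := by
        have e1 : g₀⁻¹ * iotaGL n F K (z : GL n F) * g₀ * t * (g₀⁻¹ * iotaGL n F K (z : GL n F) * g₀)⁻¹ =
            g₀⁻¹ * (iotaGL n F K (z : GL n F) * (g₀ * t * g₀⁻¹) * (iotaGL n F K (z : GL n F))⁻¹) * g₀ := by group
        rw [e1, ← hιx, ← hcomm', mul_inv_cancel_right, ht]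
      obtain ⟨c, hc⟩ := (d.hτrange _).mp (hcent_t _ hg'G hg't)
      have hzc : iotaGL n F K (z : GL n F) = g₀ * d.τ c * g₀⁻¹ := by rw [hc]; group
      refine (hmemH z).mpr ⟨c, ?_, hzc⟩
      apply d.hτinj
      have h1 := sigmaGL_iotaGL (n := n) (F := F) (K := K) (z : GL n F)
      rw [hzc, hfixT] at h1
      have := congrArg (fun y => g₀⁻¹ * y * g₀) h1
      simpa [mul_assoc] using this
    · -- `H` is commutative
      intro a ha
      rw [Subgroup.mem_centralizer_iff]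
      intro b hb
      obtain ⟨ca, -, hca⟩ := (hmemH a).mp ha
      obtain ⟨cb, -, hcb⟩ := (hmemH b).mp hb
      apply hfinj
      rw [map_mul, map_mul, hf, hf, hca, hcb]
      have e1 : g₀ * d.τ cb * g₀⁻¹ * (g₀ * d.τ ca * g₀⁻¹) = g₀ * (d.τ cb * d.τ ca) * g₀⁻¹ := by group
      have e2 : g₀ * d.τ ca * g₀⁻¹ * (g₀ * d.τ cb * g₀⁻¹) = g₀ * (d.τ ca * d.τ cb) * g₀⁻¹ := by group
      rw [e1, e2, ← map_mul, ← map_mul, mul_comm]

end Main

end Cfsg.Agent.Helper80.Tor
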