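import Cfsg.Agent.Helper80.Tor.Main
import Cfsg.Agent.Helper36.TorD.Main
import Cfsg.Agent.Helper36.TorD.MainE8
import Cfsg.Agent.S1062
import Cfsg.Agent.Helper42.TorNT8
import Cfsg.Agent.Helper85.TorNT30
import Cfsg.Agent.Helper87.TorORDF4
import Cfsg.Agent.Helper33.TorORDE8
import Cfsg.Agent.S1065

/-!
# helper80: S2372 (`F₄`, `q⁴+1`) and S2375 (`E₈`, `Φ₃₀(q)`) from `torus_main`
-/

set_option autoImplicit false
set_option linter.unusedVariables false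
set_option linter.style.haveILetI false

namespace Cfsg.Agent.Helper80.Tor

open Cfsg Cfsg.Lie
open Polynomial
open Cfsg.Agent.Helper36.TorD Cfsg.Agent.Helper33.Tor Cfsg.Agent.Helper42.Tor Cfsg.Agent.Helper85.Tor Cfsg.Agent.Helper87.Tor

theorem cyclotomic_eight : cyclotomic 8 ℤ = X ^ 4 + 1 := by
  have := cyclotomic_prime_pow_eq_geom_sum (R := ℤ) (p := 2) (n := 2) Nat.prime_two
  norm_num at this
  rw [this]

theorem cyclotomic_thirty :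
    cyclotomic 30 ℤ = X ^ 8 + X ^ 7 - X ^ 5 - X ^ 4 - X ^ 3 + X + 1 := by
  have h := cyclotomic_expand_eq_cyclotomic_mul (p := 5) (n := 6) (by norm_num) (by norm_num) ℤ
  rw [cyclotomic_six] at h
  norm_num at h
  have h6 : (X ^ 2 - X + 1 : ℤ[X]) ≠ 0 := by
    intro h0
    have := congrArg (fun p => p.coeff 0) h0
    simp at this
  apply mul_right_cancel₀ h6
  rw [← h]
  ring

/-- a field extension of degree `m`, in `Type` -/
theorem exists_ext (F : Type*) [Field F] [Fintype F] (m : ℕ) (hm : m ≠ 0) :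
    ∃ (K : Type) (_ : Field K) (_ : Fintype K) (_ : Algebra F K),
      Fintype.card K = Fintype.card F ^ m := by
  obtain ⟨p, hp⟩ := CharP.exists F
  have hpp : p.Prime := CharP.char_is_prime F p
  have : Fact p.Prime := ⟨hpp⟩
  haveI : NeZero m := ⟨hm⟩
  refine ⟨FiniteField.Extension F p m, inferInstance, Fintype.ofFinite _, inferInstance, ?_⟩
  rw [Fintype.card_eq_nat_card, Fintype.card_eq_nat_card, FiniteField.natCard_extension]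

theorem not_dvd_1152 {r : ℕ} (hr : r.Prime) (h17 : 17 ≤ r) : ¬ r ∣ 1152 := by
  intro h
  have e : (1152 : ℕ) = 2 ^ 7 * 3 ^ 2 := by norm_num
  rw [e] at h
  rcases hr.dvd_mul.mp h with h | h
  · have := Nat.le_of_dvd (by norm_num) (hr.dvd_of_dvd_pow h); omega
  · have := Nat.le_of_dvd (by norm_num) (hr.dvd_of_dvd_pow h); omega

theorem not_dvd_weylE8 {r : ℕ} (hr : r.Prime) (h31 : 31 ≤ r) : ¬ r ∣ 696729600 := by
  intro h
  have e : (696729600 : ℕ) = 2 ^ 14 * 3 ^ 5 * 5 ^ 2 * 7 := by norm_num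
  rw [e] at h
  rcases hr.dvd_mul.mp h with h | h
  · rcases hr.dvd_mul.mp h with h | h
    · rcases hr.dvd_mul.mp h with h | h
      · have := Nat.le_of_dvd (by norm_num) (hr.dvd_of_dvd_pow h); omega
      · have := Nat.le_of_dvd (by norm_num) (hr.dvd_of_dvd_pow h); omega
    · have := Nat.le_of_dvd (by norm_num) (hr.dvd_of_dvd_pow h); omega
  · have := Nat.le_of_dvd (by norm_num) h; omega

/-- **S2372** -/
theorem main_F4 {F : Type*} [Field F] [Fintype F] (q : ℕ) (hF : Fintype.card F = q) :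
    ∃ H : Subgroup ↥(chevF4.group F), IsCyclic ↥H ∧ Nat.card ↥H = q ^ 4 + 1 ∧
      Subgroup.centralizer (H : Set ↥(chevF4.group F)) = H := by
  have hq2 : 2 ≤ q := by rw [← hF]; exact Fintype.one_lt_card
  obtain ⟨K, _, _, _, hK⟩ := exists_ext F 8 (by norm_num)
  rw [hF] at hK
  obtain ⟨r, hr, hrq, h17, hord⟩ := exists_prime_F4 q hq2
  haveI : Fact r.Prime := ⟨hr⟩
  have hK17 : 17 ≤ Fintype.card K := by
    rw [hK]
    calc 17 ≤ 2 ^ 8 := by norm_num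
      _ ≤ q ^ 8 := Nat.pow_le_pow_left hq2 8
  obtain ⟨d, hGF, hGK, hW⟩ := exists_torData_F4 (F := F) (K := K) hK17
  have hcF := Cfsg.Agent.S1062.result (F := F) hF
  have hcK := Cfsg.Agent.S1062.result (F := K) hK
  obtain ⟨hdF, hvK⟩ := val_F4 hr hq2 h17 hrq _ _ hcF hcK
  have key := torus_main (m := 8) (q := q) (r := r) (N₀ := q ^ 4 + 1) d hF hq2 (by norm_num) hK
    (by decide) (by rw [hW]; exact not_dvd_1152 hr h17) (by rw [hGF]; exact hdF)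
    (by rw [hGK]; exact hvK) hord
    (1 + C (q : ℤ) * X + C (q : ℤ) ^ 2 * X ^ 2 + C (q : ℤ) ^ 3 * X ^ 3) (by positivity)
    (by
      rw [cyclotomic_eight]
      simp only [map_pow, Nat.cast_add, Nat.cast_pow, Nat.cast_one, map_add, map_one]
      ring)
    (by
      have h1 : 1 ≤ q ^ 4 := Nat.one_le_pow _ _ (by omega)
      refine ⟨q ^ 4 - 1, ?_⟩
      have : q ^ 8 = (q ^ 4) ^ 2 := by ring
      rw [this]
      zify [h1, Nat.one_le_pow 2 (q ^ 4) (by omega)]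
      ring)
    (by
      intro ℓ hℓ hℓ8 hℓN h4
      have hℓ2 : ℓ = 2 := by
        have : ℓ ∣ 2 ^ 3 := by norm_num; exact hℓ8
        exact (Nat.prime_dvd_prime_iff_eq hℓ Nat.prime_two).mp (hℓ.dvd_of_dvd_pow this)
      subst hℓ2
      have hodd : q % 2 = 1 := by
        rcases Nat.even_or_odd q with he | ho
        · exfalso
          have : Even (q ^ 4) := Nat.even_pow.mpr ⟨he, by norm_num⟩
          have h2 : ¬ 2 ∣ q ^ 4 + 1 := by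
            rw [← even_iff_two_dvd, Nat.even_add_one]
            exact not_not.mpr this
          exact h2 hℓN
        · exact Nat.odd_iff.mp ho
      have h16 : q ^ 4 % 4 = 1 := by
        have : q % 4 = 1 ∨ q % 4 = 3 := by omega
        rcases this with h | h <;> simp [Nat.pow_mod, h]
      have : (q ^ 4 + 1) % 4 = 0 := Nat.mod_eq_zero_of_dvd (by simpa using h4)
      omega)
  rw [← hGF]
  exact key

/-- the natural number `Φ₃₀(q)`, cast to `ℤ` -/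
theorem cast_phi30 (q : ℕ) (hq : 2 ≤ q) :
    ((q ^ 8 + q ^ 7 - q ^ 5 - q ^ 4 - q ^ 3 + q + 1 : ℕ) : ℤ) =
      (q : ℤ) ^ 8 + (q : ℤ) ^ 7 - (q : ℤ) ^ 5 - (q : ℤ) ^ 4 - (q : ℤ) ^ 3 + (q : ℤ) + 1 := by
  have h3 : q ^ 3 ≤ q ^ 4 := Nat.pow_le_pow_right (by omega) (by norm_num)
  have h4 : q ^ 4 ≤ q ^ 5 := Nat.pow_le_pow_right (by omega) (by norm_num)
  have h5 : q ^ 5 ≤ q ^ 7 := Nat.pow_le_pow_right (by omega) (by norm_num)
  have h8 : 2 * q ^ 7 ≤ q ^ 8 := by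
    calc 2 * q ^ 7 ≤ q * q ^ 7 := Nat.mul_le_mul_right _ hq
      _ = q ^ 8 := by ring
  have e1 : q ^ 5 ≤ q ^ 8 + q ^ 7 := by omega
  have e2 : q ^ 4 ≤ q ^ 8 + q ^ 7 - q ^ 5 := by omega
  have e3 : q ^ 3 ≤ q ^ 8 + q ^ 7 - q ^ 5 - q ^ 4 := by omega
  push_cast [Nat.cast_sub e1, Nat.cast_sub e2, Nat.cast_sub e3]
  ring

theorem phi30_pos (q : ℕ) (hq : 2 ≤ q) : 0 < q ^ 8 + q ^ 7 - q ^ 5 - q ^ 4 - q ^ 3 + q + 1 := by omega

theorem phi30_mod (ℓ : ℕ) (hℓ : ℓ = 2 ∨ ℓ = 3 ∨ ℓ = 5) (q : ℕ) (hq : 2 ≤ q) :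
    ¬ ℓ ∣ q ^ 8 + q ^ 7 - q ^ 5 - q ^ 4 - q ^ 3 + q + 1 := by
  intro h
  have h' : ((q ^ 8 + q ^ 7 - q ^ 5 - q ^ 4 - q ^ 3 + q + 1 : ℕ) : ZMod ℓ) = 0 :=
    (ZMod.natCast_eq_zero_iff _ _).mpr h
  have hc : ((q ^ 8 + q ^ 7 - q ^ 5 - q ^ 4 - q ^ 3 + q + 1 : ℕ) : ZMod ℓ) =
      (q : ZMod ℓ) ^ 8 + (q : ZMod ℓ) ^ 7 - (q : ZMod ℓ) ^ 5 - (q : ZMod ℓ) ^ 4 - (q : ZMod ℓ) ^ 3 +
        (q : ZMod ℓ) + 1 := by
    rw [← Int.cast_natCast (R := ZMod ℓ), cast_phi30 q hq]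
    push_cast
    rfl
  rw [hc] at h'
  rcases hℓ with rfl | rfl | rfl
  · have : ∀ x : ZMod 2, x ^ 8 + x ^ 7 - x ^ 5 - x ^ 4 - x ^ 3 + x + 1 ≠ 0 := by decide
    exact this _ h'
  · have : ∀ x : ZMod 3, x ^ 8 + x ^ 7 - x ^ 5 - x ^ 4 - x ^ 3 + x + 1 ≠ 0 := by decide
    exact this _ h'
  · have : ∀ x : ZMod 5, x ^ 8 + x ^ 7 - x ^ 5 - x ^ 4 - x ^ 3 + x + 1 ≠ 0 := by decide
    exact this _ h'

/-- **S2375** -/
theorem main_E8 {F : Type*} [Field F] [Fintype F] (q : ℕ) (hF : Fintype.card F = q) :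
    ∃ H : Subgroup ↥(chevE8.group F), IsCyclic ↥H ∧
      Nat.card ↥H = q ^ 8 + q ^ 7 - q ^ 5 - q ^ 4 - q ^ 3 + q + 1 ∧
      Subgroup.centralizer (H : Set ↥(chevE8.group F)) = H := by
  have hq2 : 2 ≤ q := by rw [← hF]; exact Fintype.one_lt_card
  obtain ⟨K, _, _, _, hK⟩ := exists_ext F 30 (by norm_num)
  rw [hF] at hK
  obtain ⟨r, hr, hrq, h31, hord⟩ := exists_prime_E8 q hq2
  haveI : Fact r.Prime := ⟨hr⟩
  have hK17 : 17 ≤ Fintype.card K := by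
    rw [hK]
    calc 17 ≤ 2 ^ 30 := by norm_num
      _ ≤ q ^ 30 := Nat.pow_le_pow_left hq2 30
  obtain ⟨d, hGF, hGK, hW⟩ := exists_torData_E8 (F := F) (K := K) hK17
  have hcF := Cfsg.Agent.S1065.result (F := F) hF
  have hcK := Cfsg.Agent.S1065.result (F := K) hK
  obtain ⟨hdF, hvK⟩ := val_E8 hr hq2 h31 hrq _ _ hcF hcK
  have key := torus_main (m := 30) (q := q) (r := r)
    (N₀ := q ^ 8 + q ^ 7 - q ^ 5 - q ^ 4 - q ^ 3 + q + 1) d hF hq2 (by norm_num) hK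
    (by decide) (by rw [hW]; exact not_dvd_weylE8 hr h31) (by rw [hGF]; exact hdF)
    (by rw [hGK]; exact hvK) hord
    (C (q : ℤ) ^ 7
      - C (q : ℤ) ^ 5 * (1 + C (q : ℤ) * X + C (q : ℤ) ^ 2 * X ^ 2)
      - C (q : ℤ) ^ 4 * (1 + C (q : ℤ) * X + C (q : ℤ) ^ 2 * X ^ 2 + C (q : ℤ) ^ 3 * X ^ 3)
      - C (q : ℤ) ^ 3 * (1 + C (q : ℤ) * X + C (q : ℤ) ^ 2 * X ^ 2 + C (q : ℤ) ^ 3 * X ^ 3 +
          C (q : ℤ) ^ 4 * X ^ 4)
      + C (q : ℤ) * (1 + C (q : ℤ) * X + C (q : ℤ) ^ 2 * X ^ 2 + C (q : ℤ) ^ 3 * X ^ 3 +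
          C (q : ℤ) ^ 4 * X ^ 4 + C (q : ℤ) ^ 5 * X ^ 5 + C (q : ℤ) ^ 6 * X ^ 6)
      + (1 + C (q : ℤ) * X + C (q : ℤ) ^ 2 * X ^ 2 + C (q : ℤ) ^ 3 * X ^ 3 +
          C (q : ℤ) ^ 4 * X ^ 4 + C (q : ℤ) ^ 5 * X ^ 5 + C (q : ℤ) ^ 6 * X ^ 6 +
          C (q : ℤ) ^ 7 * X ^ 7))
    (phi30_pos q hq2)
    (by
      rw [cyclotomic_thirty, cast_phi30 q hq2]
      simp only [map_pow, map_add, map_sub, map_one]
      ring)
    (by
      have h1 : 1 ≤ q ^ 30 := Nat.one_le_pow _ _ (by omega)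
      rw [← Int.natCast_dvd_natCast, cast_phi30 q hq2, Nat.cast_sub h1]
      push_cast
      refine ⟨((q : ℤ) ^ 15 - 1) * ((q : ℤ) + 1) * ((q : ℤ) ^ 2 - q + 1) *
        ((q : ℤ) ^ 4 - (q : ℤ) ^ 3 + (q : ℤ) ^ 2 - q + 1), ?_⟩
      ring)
    (by
      intro ℓ hℓ hℓ30 hℓN
      exfalso
      have hle : ℓ ≤ 30 := Nat.le_of_dvd (by norm_num) hℓ30
      have h235 : ℓ = 2 ∨ ℓ = 3 ∨ ℓ = 5 := by
        interval_cases ℓ <;> first | omega | (exfalso; revert hℓ; decide)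
      exact phi30_mod ℓ h235 q hq2 hℓN)
  rw [← hGF]
  exact key

end Cfsg.Agent.Helper80.Tor
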